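import Groth.Agent.Lib.FTIdeals9.Basic
import Groth.Agent.Lib.K0Sub.KerUnit
import Groth.Agent.Lib.ModDesc.Basic
import Groth.Agent.Lib.Ample.Generation
import Groth.Agent.Lib.Ample.FiniteGen
import Groth.Agent.Lib.QCoh.Qcqs
import Groth.Agent.Lib.OX.LocFreeTensor
import Groth.Agent.Lib.RegSheaf.PullTwist
import Groth.Agent.Lib.FunMor20.Glue
import Groth.Agent.Lib.Cohom.RpushModules
import Groth.Agent.Lib.QCoh.Devissage

/-!
# Coherent modules as quotients of torsion-free coherent modules
-/

set_option backward.isDefEq.respectTransparency false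

universe u

open CategoryTheory CategoryTheory.Limits AlgebraicGeometry Opposite TopologicalSpace

namespace GrothLib.TFQuot

variable {X : Scheme.{u}}

/-- A map surjective on the members of an affine cover is an epimorphism. -/
theorem epi_of_cover {M N : X.Modules} [N.IsQuasicoherent] (g : M ⟶ N) {κ : Type*} (U : κ → X.Opens)
    (hU : ∀ k, IsAffineOpen (U k)) (hc : ∀ x : X, ∃ k, x ∈ U k)
    (h : ∀ k, Function.Surjective (g.app (U k))) : Epi g := by
  refine (OX.epi_iff g).2 fun x => (ModuleCat.epi_iff_surjective _).2 fun e => ?_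
  obtain ⟨k, hxU⟩ := hc x
  obtain ⟨c, z, hc, hz⟩ := WeakAss.exists_smul_eq_germ (hU k) hxU e
  have hu : IsUnit (X.presheaf.germ (U k) x hxU c) :=
    (Scheme.mem_basicOpen _ c x hxU).mp (WeakAss.notMem_primeAt_iff.mp hc)
  obtain ⟨w, hw⟩ := h k z
  refine ⟨((hu.unit⁻¹ : _ˣ) : X.presheaf.stalk x) • M.presheaf.germ (U k) x hxU w, ?_⟩
  change QCoh.stalkLin g x _ = e
  rw [map_smul, QCoh.stalkLin_germ, show g.app (U k) w = z from hw, ← hz, smul_smul,
    IsUnit.val_inv_mul, one_smul]

/-- A quasi-coherent module surjecting onto a coherent one contains a coherent submodule doing so. -/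
theorem exists_coh_sub_epi [IsNoetherian X] {G F : X.Modules} [G.IsQuasicoherent] (hF : Coh.IsCoh F) (π : G ⟶ F)
    [Epi π] : ∃ (G' : X.Modules) (i : G' ⟶ G), Mono i ∧ Coh.IsCoh G' ∧ Epi (i ≫ π) := by
  classical
  haveI := hF.1
  obtain ⟨A, _, W, hW, -, hcov⟩ := QCoh.exists_finite_affine_cover (U := (⊤ : X.Opens)) (by simpa using isCompact_univ)
  have hgen : ∀ a, ∃ T : Finset Γ(F, W a), Submodule.span Γ(X, W a) (T : Set Γ(F, W a)) = ⊤ := fun a =>
    (QCoh.moduleFinite_of_isFiniteType F hF.2 (hW a)).fg_top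
  choose T hT using hgen
  choose w hw using fun p : Σ a, T a => ModDesc.app_surjective_of_epi π (hW p.1) p.2.1
  obtain ⟨Q, hQ, hQw⟩ := FTIdeals9.exists_locGen_family (F := G) (κ := Σ a, T a) (fun p => W p.1)
    (fun p => (hW p.1).isCompact) w
  haveI := hQ.isQuasicoherent
  refine ⟨Q.obj, Q.ι, ⟨fun g h e => Scheme.Modules.hom_ext _ _ fun U => ?_⟩, ⟨inferInstance, hQ.isFiniteType⟩, ?_⟩
  · refine AddCommGrpCat.hom_ext (AddMonoidHom.ext fun y => Q.ι_app_injective U ?_)
    exact ConcreteCategory.congr_hom (congrArg (fun t => Scheme.Modules.Hom.app t U) e) y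
  refine epi_of_cover _ W hW (fun x => Opens.mem_iSup.1 (hcov (Opens.mem_top x))) fun a z => ?_
  have hz : z ∈ LinearMap.range (QCoh.appLinear (Q.ι ≫ π) (W a)) := by
    have : Submodule.span Γ(X, W a) (T a : Set Γ(F, W a)) ≤ LinearMap.range (QCoh.appLinear (Q.ι ≫ π) (W a)) :=
      Submodule.span_le.2 fun t ht => ⟨Q.lift (w ⟨a, t, ht⟩) (hQw ⟨a, t, ht⟩), hw ⟨a, t, ht⟩⟩
    exact this (hT a ▸ Submodule.mem_top)
  exact hz

/-- No section is killed by a nonzero function. -/
def SecTF (E : X.Modules) : Prop :=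
  ∀ (W : X.Opens) (r : Γ(X, W)) (s : Γ(E, W)), r ≠ 0 → r • s = 0 → s = 0

theorem secTF_of_mono {E F : X.Modules} (i : E ⟶ F) [Mono i] (h : SecTF F) : SecTF E := fun W r s hr hs => by
  refine ModDesc.app_injective_of_mono i W ?_
  rw [map_zero]
  refine h W r _ hr ?_
  have := congrArg (i.app W) hs
  rwa [map_zero, show i.app W (r • s) = r • i.app W s from (QCoh.appLinear i W).map_smul r s] at this

theorem secTF_biproduct {κ : Type} [Fintype κ] (E : κ → X.Modules) [HasBiproduct E] (h : ∀ k, SecTF (E k)) :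
    SecTF (⨁ E) := fun W r s hr hs => by
  classical
  have h0 : ∀ k, (biproduct.π E k).app W s = 0 := fun k => by
    refine h k W r _ hr ?_
    have := congrArg ((biproduct.π E k).app W) hs
    rwa [map_zero, show (biproduct.π E k).app W (r • s) = r • (biproduct.π E k).app W s from
      (QCoh.appLinear (biproduct.π E k) W).map_smul r s] at this
  let ev : (⨁ E ⟶ ⨁ E) →+ Γ(⨁ E, W) :=
    { toFun := fun p ↦ p.app W s
      map_zero' := rfl
      map_add' := fun p q ↦ by rw [Scheme.Modules.Hom.add_app]; rfl }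
  have h1 := congrArg ev (biproduct.total (f := E))
  rw [map_sum] at h1
  refine (h1.trans (by
    change (𝟙 (⨁ E) : ⨁ E ⟶ ⨁ E).app W s = s
    rw [Scheme.Modules.Hom.id_app]; rfl)).symm.trans (Finset.sum_eq_zero fun j _ => ?_)
  exact (congrArg ((biproduct.ι E j).app W) (h0 j)).trans (map_zero _)

theorem secTF_structure [IsIntegral X] : SecTF (Coh.structureModule X) := fun W r s hr hs => by
  rcases (W : Set X).eq_empty_or_nonempty with he | hne
  · exact (hr (TopCat.Presheaf.section_ext X.sheaf W _ _ fun x hx =>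
      ((Set.eq_empty_iff_forall_notMem.1 he x) hx).elim)).elim
  · haveI : Nonempty W := hne.to_subtype
    exact (mul_eq_zero.1 (show (r : Γ(X, W)) * (show Γ(X, W) from s) = 0 from hs)).resolve_left hr

theorem secTF_pushforward [IsIntegral X] {U : X.Opens} {E : (U : Scheme.{u}).Modules} (h : SecTF E) :
    SecTF ((Scheme.Modules.pushforward U.ι).obj E) := fun W r s hr hs => by
  let V : (U : Scheme.{u}).Opens := U.ι ⁻¹ᵁ W
  rcases (V : Set (U : Scheme.{u})).eq_empty_or_nonempty with he | hne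
  · exact TopCat.Presheaf.section_ext (⟨E.presheaf, E.isSheaf⟩ : TopCat.Sheaf Ab (U : Scheme.{u})) V _ _ fun x hx =>
      ((Set.eq_empty_iff_forall_notMem.1 he x) hx).elim
  · refine h V (U.ι.app W r) s (fun h0 => hr ?_) hs
    haveI : Nonempty V := hne.to_subtype
    obtain ⟨v, hv⟩ := hne
    haveI : Nonempty W := ⟨⟨U.ι v, hv⟩⟩
    haveI : IsIntegral (U : Scheme.{u}) := @isIntegral_of_isOpenImmersion _ _ U.ι inferInstance inferInstance ⟨v⟩
    refine (injective_iff_map_eq_zero _).1 (germ_injective_of_isIntegral X (U.ι v) hv) r ?_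
    have h2 := Scheme.Hom.germ_stalkMap_apply U.ι W v hv r
    rw [h0, map_zero] at h2
    exact (injective_iff_map_eq_zero (U.ι.stalkMap v).hom).1
      (ConcreteCategory.bijective_of_isIso (U.ι.stalkMap v)).1 _ h2

theorem noZeroSMulDivisors_stalk [IsIntegral X] {E : X.Modules} (h : SecTF E) (y : X) :
    NoZeroSMulDivisors ↥(X.presheaf.stalk y) ↥(E.presheaf.stalk y) := by
  refine ⟨fun {c e} hce => or_iff_not_imp_left.2 fun hc => ?_⟩
  obtain ⟨W₁, hy₁, r, rfl⟩ := X.presheaf.germ_exist (x := y) c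
  obtain ⟨W₂, hy₂, s, rfl⟩ := E.presheaf.germ_exist (x := y) e
  let W := W₁ ⊓ W₂
  have hy : y ∈ W := ⟨hy₁, hy₂⟩
  let r' := X.presheaf.map (homOfLE (inf_le_left : W ≤ W₁)).op r
  let s' := E.presheaf.map (homOfLE (inf_le_right : W ≤ W₂)).op s
  have hs0 : E.presheaf.germ W y hy (r' • s') = E.presheaf.germ W y hy 0 := by
    rw [map_zero, ← hce]
    refine (PresheafOfModules.germ_smul E.val y W hy r' s').trans ?_
    exact congr (congrArg HSMul.hSMul (X.presheaf.germ_res_apply _ y hy r)) (E.presheaf.germ_res_apply _ y hy s)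
  obtain ⟨W', hy', i₁, i₂, he⟩ := E.presheaf.germ_eq y hy hy _ _ hs0
  rw [map_zero, Scheme.Modules.map_smul] at he
  have hne : X.presheaf.map i₁.op r' ≠ 0 := fun h0 => hc (by
    have h1 := congrArg (X.presheaf.germ W' y hy') h0
    rw [map_zero] at h1
    exact ((X.presheaf.germ_res_apply _ y hy' r').trans (X.presheaf.germ_res_apply _ y hy r)).symm.trans h1)
  have hz := h W' _ _ hne he
  have h1 := congrArg (E.presheaf.germ W' y hy') hz
  rw [map_zero] at h1
  exact ((E.presheaf.germ_res_apply _ y hy' s').trans (E.presheaf.germ_res_apply _ y hy s)).symm.trans h1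

/-- Morphisms agreeing on an open cover agree. -/
theorem hom_ext_cover {M N : X.Modules} {κ : Type} (U : κ → X.Opens) (hc : ∀ x : X, ∃ k, x ∈ U k) (g h : M ⟶ N)
    (e : ∀ k, (Scheme.Modules.restrictFunctor (U k).ι).map g = (Scheme.Modules.restrictFunctor (U k).ι).map h) :
    g = h := by
  refine Scheme.Modules.hom_ext _ _ fun V => AddCommGrpCat.hom_ext (AddMonoidHom.ext fun y => ?_)
  let W : κ → X.Opens := fun k => (U k).ι ''ᵁ ((U k).ι ⁻¹ᵁ V)
  refine TopCat.Sheaf.eq_of_locally_eq' (F := ⟨N.presheaf, N.isSheaf⟩) W V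
    (fun k => homOfLE (Scheme.Hom.image_preimage_le _ _)) (fun x hx => ?_) _ _ fun k => ?_
  · obtain ⟨k, hk⟩ := hc x
    exact Opens.mem_iSup.2 ⟨k, ⟨x, hk⟩, hx, rfl⟩
  · change N.presheaf.map _ (g.app V y) = N.presheaf.map _ (h.app V y)
    rw [QCoh.map_app, QCoh.map_app]
    exact ConcreteCategory.congr_hom (congrArg (fun t => Scheme.Modules.Hom.app t ((U k).ι ⁻¹ᵁ V)) (e k)) _

/-- Sections killed by a morphism come from its kernel. -/
theorem exists_kernel_app {M N : X.Modules} (g : M ⟶ N) (V : X.Opens) (w : Γ(M, V)) (hw : g.app V w = 0) :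
    ∃ z, (kernel.ι g).app V z = w := by
  obtain ⟨_, hS⟩ := QCoh.shortExact_kernel_image g
  refine QCoh.app_exact hS V w (ModDesc.app_injective_of_mono (Abelian.image.ι g) V ?_)
  rw [map_zero, ← hw]
  exact (ConcreteCategory.congr_hom (congrArg (fun t => Scheme.Modules.Hom.app t V) (Abelian.image.fac g)) w)

/-- On a Noetherian integral scheme with affine intersections, coherent modules are quotients of torsion-free ones. -/
theorem exists_tf_epi [IsNoetherian X] [IsIntegral X]
    (hd : ∀ V W : X.Opens, IsAffineOpen V → IsAffineOpen W → IsAffineOpen (V ⊓ W))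
    {F : X.Modules} (hF : Coh.IsCoh F) :
    ∃ (F' : X.Modules) (π : F' ⟶ F), Coh.IsCoh F' ∧ SecTF F' ∧ Epi π := by
  classical
  haveI := hF.1
  obtain ⟨A, _, W, hW, -, hcov⟩ := QCoh.exists_finite_affine_cover (U := (⊤ : X.Opens)) (by simpa using isCompact_univ)
  let e := Fintype.equivFin A
  let U : Fin (Fintype.card A) → X.Opens := fun l => W (e.symm l)
  haveI haff : ∀ l, IsAffineHom (U l).ι := fun l => ⟨fun V hV => by
    rw [← (U l).ι.isAffineOpen_iff_of_isOpenImmersion, Scheme.Hom.image_preimage_eq_opensRange_inf,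
      Scheme.Opens.opensRange_ι]
    exact hd _ _ (hW _) hV⟩
  haveI hafs : ∀ l, IsAffine (U l : Scheme.{u}) := fun l => hW _
  have hres : ∀ l, Coh.IsCoh (F.restrict (U l).ι) := fun l => Cohom.isCoh_restrict F hF (U l).ι
  have hsp : ∀ l, ∃ (m : ℕ) (p : (⨁ fun _ : Fin m => Coh.structureModule (U l : Scheme.{u})) ⟶ F.restrict (U l).ι),
      Epi p := fun l => by
    haveI := (hres l).1
    obtain ⟨m, t, ht⟩ := Ample.exists_finite_spanned (F.restrict (U l).ι)
      (fun _ => ⟨⊤, trivial, fun W' hW' _ => QCoh.moduleFinite_of_isFiniteType _ (hres l).2 hW'⟩) id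
      (RegSheaf.spanned_of_isAffine _)
    obtain ⟨p, hp⟩ := Ample.exists_epi_free _ ht
    exact ⟨m, (biproduct.isoCoproduct _).hom ≫ p, epi_comp _ _⟩
  choose m p hp using hsp
  haveI : ∀ l, (⨁ fun _ : Fin (m l) => Coh.structureModule (U l : Scheme.{u})).IsQuasicoherent := fun l =>
    FunMor20.isQuasicoherent_biproduct _ fun _ => Cohom.isQuasicoherent_structureModule _
  let P : Fin (Fintype.card A) → X.Modules := fun l => (Scheme.Modules.pushforward (U l).ι).obj
    (⨁ fun _ : Fin (m l) => Coh.structureModule (U l : Scheme.{u}))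
  let Q : Fin (Fintype.card A) → X.Modules := fun l => (Scheme.Modules.pushforward (U l).ι).obj (F.restrict (U l).ι)
  haveI hPq : ∀ l, (P l).IsQuasicoherent := fun l => QCoh.isQuasicoherent_pushforward (U l).ι _
  haveI hQq : ∀ l, (Q l).IsQuasicoherent := fun l => by
    haveI := (hres l).1
    exact QCoh.isQuasicoherent_pushforward (U l).ι _
  haveI hepi : ∀ l, Epi ((Scheme.Modules.pushforward (U l).ι).map (p l)) := fun l => by
    haveI := (hres l).1
    haveI := hp l
    haveI := hQq l
    refine K0Sub.epi_of_app_surjective _ fun V => ?_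
    exact ModDesc.app_surjective_of_epi (p l) (V.2.preimage (U l).ι)
  haveI : HasFiniteBiproducts X.Modules := HasFiniteBiproducts.of_hasFiniteCoproducts
  let π : (⨁ P) ⟶ ⨁ Q := biproduct.map fun l => (Scheme.Modules.pushforward (U l).ι).map (p l)
  haveI : Epi π := inferInstance
  let η : F ⟶ ⨁ Q := biproduct.lift fun l => (Scheme.Modules.restrictAdjunction (U l).ι).unit.app F
  haveI : Mono η := by
    refine ⟨fun {Z} g h e' => ?_⟩
    refine hom_ext_cover U (fun x => ?_) _ _ fun l => ?_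
    · obtain ⟨a, ha⟩ := Opens.mem_iSup.1 (hcov (Opens.mem_top x))
      exact ⟨e a, by simpa [U] using ha⟩
    · have h1 := congrArg (fun t => t ≫ biproduct.π Q l) e'
      simp only [Category.assoc, η, biproduct.lift_π] at h1
      have h2 := congrArg ((Scheme.Modules.restrictAdjunction (U l).ι).homEquiv _ _).symm h1
      rw [Adjunction.homEquiv_naturality_left_symm, Adjunction.homEquiv_naturality_left_symm] at h2
      have h3 : ((Scheme.Modules.restrictAdjunction (U l).ι).homEquiv F (F.restrict (U l).ι)).symm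
          ((Scheme.Modules.restrictAdjunction (U l).ι).unit.app F) = 𝟙 _ := by
        rw [Adjunction.homEquiv_counit]; exact (Scheme.Modules.restrictAdjunction (U l).ι).left_triangle_components F
      rwa [h3, Category.comp_id, Category.comp_id] at h2
  haveI : ∀ l, (P l).IsQuasicoherent := hPq
  haveI : (⨁ P).IsQuasicoherent := FunMor20.isQuasicoherent_biproduct P hPq
  haveI : (⨁ Q).IsQuasicoherent := FunMor20.isQuasicoherent_biproduct Q hQq
  haveI : (cokernel η).IsQuasicoherent := QCoh.isQuasicoherent_cokernel η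
  let K := kernel (π ≫ cokernel.π η)
  haveI : K.IsQuasicoherent := QCoh.isQuasicoherent_kernel _
  let toF : K ⟶ F := Abelian.monoLift η (kernel.ι (π ≫ cokernel.π η) ≫ π) (by rw [Category.assoc]; exact kernel.condition _)
  have hsq : toF ≫ η = kernel.ι (π ≫ cokernel.π η) ≫ π := Abelian.monoLift_comp _ _ _
  haveI : Epi toF := by
    refine K0Sub.epi_of_app_surjective _ fun V t => ?_
    obtain ⟨w, hw⟩ := ModDesc.app_surjective_of_epi π V.2 (η.app V.1 t)
    have hw0 : (π ≫ cokernel.π η).app V.1 w = 0 := by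
      change (cokernel.π η).app V.1 (π.app V.1 w) = 0
      rw [hw]
      exact ConcreteCategory.congr_hom (congrArg (fun q => Scheme.Modules.Hom.app q V.1) (cokernel.condition η)) t
    obtain ⟨z, hz⟩ := exists_kernel_app (π ≫ cokernel.π η) V.1 w hw0
    refine ⟨z, ModDesc.app_injective_of_mono η V.1 ?_⟩
    change (toF ≫ η).app V.1 z = _
    rw [hsq]
    change π.app V.1 ((kernel.ι (π ≫ cokernel.π η)).app V.1 z) = _
    rw [hz, hw]
  obtain ⟨G', i, hi, hG', hE⟩ := exists_coh_sub_epi hF toF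
  have hne : ∀ l, (U l : Set X).Nonempty → IsIntegral (U l : Scheme.{u}) := fun l ⟨v, hv⟩ =>
    @isIntegral_of_isOpenImmersion _ _ (U l).ι inferInstance inferInstance ⟨⟨v, hv⟩⟩
  refine ⟨G', i ≫ toF, hG', ?_, hE⟩
  haveI := hi
  refine secTF_of_mono (i ≫ kernel.ι (π ≫ cokernel.π η)) (secTF_biproduct P fun l => ?_)
  rcases (U l : Set X).eq_empty_or_nonempty with he | hn
  · refine secTF_pushforward (fun V r s _ _ => ?_)
    exact TopCat.Presheaf.section_ext (⟨_, (⨁ fun _ : Fin (m l) => Coh.structureModule (U l : Scheme.{u})).isSheaf⟩ :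
      TopCat.Sheaf Ab (U l : Scheme.{u})) V _ _ fun v _ => (Set.eq_empty_iff_forall_notMem.1 he v.1 v.2).elim
  · haveI := hne l hn
    exact secTF_pushforward (secTF_biproduct _ fun _ => secTF_structure)

end GrothLib.TFQuot
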